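import Groth.Prelude.Def_WeakSerre
import Mathlib.Algebra.Homology.DerivedCategory.TStructure
import Mathlib.Algebra.Homology.DerivedCategory.SingleTriangle
import Mathlib.Algebra.Homology.DerivedCategory.FullyFaithful
import Mathlib.Algebra.Homology.DerivedCategory.HomologySequence
import Mathlib.Algebra.Homology.DerivedCategory.ExactFunctor
import Mathlib.CategoryTheory.Triangulated.TStructure.TruncLEGT
import Mathlib.CategoryTheory.Triangulated.Adjunction
import Mathlib.CategoryTheory.Shift.Adjunction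

/-!
# Dévissage in the derived category of an abelian category

Bounded objects are built from their cohomology; natural transformations of left t-exact triangulated functors
and weak Serre conditions are checked on cohomology.
-/

set_option autoImplicit false

universe w₁ w₂ v₁ v₂ u₁ u₂

open CategoryTheory Limits Pretriangulated DerivedCategory

namespace Groth.DerivedAdj

variable {A : Type u₁} [Category.{v₁} A] [Abelian A] [HasDerivedCategory.{w₁} A]
  {B : Type u₂} [Category.{v₂} B] [Abelian B] [HasDerivedCategory.{w₂} B]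

local notation "tA" => (TStructure.t : Triangulated.TStructure (DerivedCategory A))

lemma isIso_homologyMap_truncLE (X : DerivedCategory A) (n i : ℤ) (hi : i ≤ n) :
    IsIso ((homologyFunctor A i).map (((tA).truncLEι n).app X)) := by
  let T := ((tA).triangleLEGT n).obj X
  have hT : T ∈ distTriang (DerivedCategory A) := (tA).triangleLEGT_distinguished n X
  have : T.obj₃.IsGE (n + 1) := inferInstanceAs ((tA).IsGE (((tA).truncGT n).obj X) (n + 1))
  have : Mono ((homologyFunctor A i).map T.mor₁) :=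
    (HomologySequence.mono_homologyMap_mor₁_iff T hT (i - 1) i (by lia)).2
      ((isZero_of_isGE T.obj₃ (n + 1) (i - 1) (by lia)).eq_of_src _ _)
  have : Epi ((homologyFunctor A i).map T.mor₁) :=
    (HomologySequence.epi_homologyMap_mor₁_iff T hT i).2
      ((isZero_of_isGE T.obj₃ (n + 1) i (by lia)).eq_of_tgt _ _)
  exact isIso_of_mono_of_epi ((homologyFunctor A i).map T.mor₁)

lemma isGE_truncLE (X : DerivedCategory A) (n a : ℤ) [X.IsGE a] : (((tA).truncLE n).obj X).IsGE a := by
  rw [isGE_iff]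
  intro i hi
  by_cases hin : i ≤ n
  · have := isIso_homologyMap_truncLE X n i hin
    exact (isZero_of_isGE X a i hi).of_iso
      (asIso ((homologyFunctor A i).map (((tA).truncLEι n).app X)))
  · have : (((tA).truncLE n).obj X).IsLE n := inferInstanceAs ((tA).IsLE (((tA).truncLE n).obj X) n)
    exact isZero_of_isLE _ n i (by lia)

lemma prop_homology_truncLE (P : ObjectProperty A) [WSerre.IsWeakSerre P] (X : DerivedCategory A) (n : ℤ)
    (hX : WSerre.cohIn P X) : WSerre.cohIn P (((tA).truncLE n).obj X) := fun i => by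
  by_cases hin : i ≤ n
  · have := isIso_homologyMap_truncLE X n i hin
    exact P.prop_of_iso (asIso ((homologyFunctor A i).map (((tA).truncLEι n).app X))).symm (hX i)
  · have : (((tA).truncLE n).obj X).IsLE n := inferInstanceAs ((tA).IsLE (((tA).truncLE n).obj X) n)
    exact P.prop_of_isZero (isZero_of_isLE _ n i (by lia))

/-- Splitting off the top cohomology. -/
lemma exists_top_triangle (X : DerivedCategory A) (n m : ℤ) (h : m + 1 = n) [X.IsLE n] :
    ∃ T : Triangle (DerivedCategory A), T ∈ distTriang (DerivedCategory A) ∧ IsLE T.obj₁ m ∧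
      Nonempty (T.obj₂ ≅ X) ∧
      (∀ i ≤ m, Nonempty ((homologyFunctor A i).obj T.obj₁ ≅ (homologyFunctor A i).obj X)) ∧
      Nonempty (T.obj₃ ≅ (singleFunctor A n).obj ((homologyFunctor A n).obj X)) := by
  let T := ((tA).triangleLEGE m n h).obj X
  have hT : T ∈ distTriang (DerivedCategory A) := (tA).triangleLEGE_distinguished m n h X
  have hX : ∀ i, n < i → IsZero ((homologyFunctor A i).obj X) :=
    fun i hi => isZero_of_isLE X n i hi
  haveI h1 : IsLE T.obj₁ m := inferInstanceAs ((tA).IsLE (((tA).truncLE m).obj X) m)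
  haveI h3 : IsGE T.obj₃ n := inferInstanceAs ((tA).IsGE (((tA).truncGE n).obj X) n)
  haveI h3' : IsLE T.obj₃ n := by
    rw [isLE_iff]
    intro i hi
    exact (HomologySequence.exact₃ T hT i (i + 1) rfl).isZero_X₂
      ((hX i hi).eq_of_src _ _) ((isZero_of_isLE T.obj₁ m (i + 1) (by lia)).eq_of_tgt _ _)
  refine ⟨T, hT, h1, ⟨Iso.refl _⟩, fun i hi => ?_, ?_⟩
  · haveI : Mono ((homologyFunctor A i).map T.mor₁) :=
      (HomologySequence.mono_homologyMap_mor₁_iff T hT (i - 1) i (by lia)).2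
        ((isZero_of_isGE T.obj₃ n (i - 1) (by lia)).eq_of_src _ _)
    haveI : Epi ((homologyFunctor A i).map T.mor₁) :=
      (HomologySequence.epi_homologyMap_mor₁_iff T hT i).2
        ((isZero_of_isGE T.obj₃ n i (by lia)).eq_of_tgt _ _)
    haveI := isIso_of_mono_of_epi ((homologyFunctor A i).map T.mor₁)
    exact ⟨@asIso _ _ _ _ ((homologyFunctor A i).map T.mor₁) this⟩
  · obtain ⟨Y, ⟨e⟩⟩ := exists_iso_singleFunctor_obj_of_isGE_of_isLE T.obj₃ n
    haveI : Mono ((homologyFunctor A n).map T.mor₂) :=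
      (HomologySequence.mono_homologyMap_mor₂_iff T hT n).2
        ((isZero_of_isLE T.obj₁ m n (by lia)).eq_of_src _ _)
    haveI : Epi ((homologyFunctor A n).map T.mor₂) :=
      (HomologySequence.epi_homologyMap_mor₂_iff T hT n (n + 1) rfl).2
        ((isZero_of_isLE T.obj₁ m (n + 1) (by lia)).eq_of_tgt _ _)
    haveI := isIso_of_mono_of_epi ((homologyFunctor A n).map T.mor₂)
    exact ⟨e ≪≫ (singleFunctor _ n).mapIso
      (((singleFunctorCompHomologyFunctorIso _ n).app Y).symm ≪≫
        (homologyFunctor _ n).mapIso e.symm ≪≫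
          (asIso ((homologyFunctor A n).map T.mor₂)).symm)⟩

/-- Dévissage of bounded objects along cohomology objects satisfying `G`. -/
theorem devissage (G : ObjectProperty A) [G.IsClosedUnderIsomorphisms]
    (P : DerivedCategory A → Prop) (iso : ∀ {X Y : DerivedCategory A}, (X ≅ Y) → P X → P Y)
    (zero : ∀ X : DerivedCategory A, IsZero X → P X)
    (ext : ∀ T ∈ distTriang (DerivedCategory A), P T.obj₁ → P T.obj₃ → P T.obj₂)
    (single : ∀ M : A, G M → ∀ n : ℤ, P ((singleFunctor A n).obj M))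
    (X : DerivedCategory A) (a b : ℤ) [hge : X.IsGE a] [hle : X.IsLE b]
    (hfin : ∀ i, G ((homologyFunctor A i).obj X)) (hG0 : ∀ M : A, IsZero M → G M) : P X := by
  obtain ⟨k, hk⟩ : ∃ k : ℕ, b < a + k := ⟨(b - a + 1).toNat, by lia⟩
  induction k generalizing X b with
  | zero => exact zero X ((tA).isZero X b a (by simpa using hk))
  | succ k ih =>
    rcases lt_or_ge b a with hlt | hab
    · exact zero X ((tA).isZero X b a hlt)
    obtain ⟨T, hT, h1, ⟨e₂⟩, e₁, ⟨e₃⟩⟩ := exists_top_triangle X b (b - 1) (by lia)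
    refine iso e₂ (ext T hT ?_ (iso e₃.symm (single _ (hfin b) b)))
    have hge₁ : IsGE T.obj₁ a := by
      rw [isGE_iff]
      intro i hi
      exact (isZero_of_isGE X a i hi).of_iso (e₁ i (by lia)).some
    refine ih (hge := hge₁) (hle := h1) T.obj₁ (b - 1) (fun i => ?_) (by lia)
    by_cases hi : i ≤ b - 1
    · exact G.prop_of_iso (e₁ i hi).some.symm (hfin i)
    · exact hG0 _ (isZero_of_isLE T.obj₁ (b - 1) i (by lia))

/-- A triangulated left t-exact functor. -/
def LeftExact (Φ : DerivedCategory A ⥤ DerivedCategory B) : Prop :=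
  ∀ (X : DerivedCategory A) (n : ℤ), X.IsGE n → (Φ.obj X).IsGE n

section NatTrans

variable {Φ Ψ : DerivedCategory A ⥤ DerivedCategory B} [Φ.CommShift ℤ] [Φ.IsTriangulated]
  [Ψ.CommShift ℤ] [Ψ.IsTriangulated] (τ : Φ ⟶ Ψ) [NatTrans.CommShift τ ℤ]

lemma isIso_app_obj₂ (T : Triangle (DerivedCategory A)) (hT : T ∈ distTriang _)
    (h₁ : IsIso (τ.app T.obj₁)) (h₃ : IsIso (τ.app T.obj₃)) : IsIso (τ.app T.obj₂) :=
  isIso₂_of_isIso₁₃ (T := Φ.mapTriangle.obj T) (T' := Ψ.mapTriangle.obj T)
    (Triangle.homMk _ _ (τ.app T.obj₁) (τ.app T.obj₂) (τ.app T.obj₃) (τ.naturality T.mor₁) (τ.naturality T.mor₂)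
      (by
        change (Φ.map T.mor₃ ≫ (Φ.commShiftIso (1 : ℤ)).hom.app T.obj₁) ≫ (τ.app T.obj₁)⟦(1 : ℤ)⟧' =
          τ.app T.obj₃ ≫ Ψ.map T.mor₃ ≫ (Ψ.commShiftIso (1 : ℤ)).hom.app T.obj₁
        rw [Category.assoc, NatTrans.shift_app_comm, ← τ.naturality_assoc]))
    (Φ.map_distinguished T hT) (Ψ.map_distinguished T hT) h₁ h₃

omit [Φ.IsTriangulated] [Ψ.IsTriangulated] in
lemma isIso_app_shift (X : DerivedCategory A) (n : ℤ) (h : IsIso (τ.app X)) :
    IsIso (τ.app (X⟦n⟧)) := by
  rw [NatTrans.app_shift]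
  infer_instance

omit [Φ.IsTriangulated] [Ψ.IsTriangulated] in
lemma isIso_app_single (M : A) (n : ℤ) (h : IsIso (τ.app ((singleFunctor A 0).obj M))) :
    IsIso (τ.app ((singleFunctor A n).obj M)) := by
  have e : (singleFunctor A n).obj M ≅ ((singleFunctor A 0).obj M)⟦-n⟧ :=
    (((singleFunctors A).shiftIso (-n) n 0 (by lia)).app M).symm
  have := isIso_app_shift τ _ (-n) h
  rw [NatTrans.isIso_app_iff_of_iso τ e]
  exact this

/-- A transformation of left t-exact triangulated functors invertible on the cohomology objects of a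
bounded below object is invertible on it. -/
theorem isIso_app_of_isGE (hΦ : LeftExact Φ) (hΨ : LeftExact Ψ) (X : DerivedCategory A) (n₀ : ℤ)
    [X.IsGE n₀] (h : ∀ q, IsIso (τ.app ((singleFunctor A 0).obj ((homologyFunctor A q).obj X)))) :
    IsIso (τ.app X) := by
  let G : ObjectProperty A := fun M => IsIso (τ.app ((singleFunctor A 0).obj M))
  have hG0 : ∀ M : A, IsZero M → G M := fun M hM =>
    have h0 := (singleFunctor A 0).map_isZero hM
    ⟨⟨0, (Φ.map_isZero h0).eq_of_src _ _, (Ψ.map_isZero h0).eq_of_src _ _⟩⟩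
  have : G.IsClosedUnderIsomorphisms :=
    ⟨fun {M N} e hM => (NatTrans.isIso_app_iff_of_iso τ ((singleFunctor A 0).mapIso e)).1 hM⟩
  rw [DerivedCategory.isIso_iff]
  intro i
  let Y := ((tA).truncLE (i + 1)).obj X
  have hY : IsIso (τ.app Y) := by
    have : Y.IsGE n₀ := isGE_truncLE X (i + 1) n₀
    have hle : Y.IsLE (i + 1) := inferInstanceAs ((tA).IsLE Y (i + 1))
    refine devissage G (fun Z => IsIso (τ.app Z)) (fun e hZ => (NatTrans.isIso_app_iff_of_iso τ e).1 hZ)
      (fun Z hZ => ⟨⟨0, (Φ.map_isZero hZ).eq_of_src _ _, (Ψ.map_isZero hZ).eq_of_src _ _⟩⟩)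
      (fun T hT => isIso_app_obj₂ τ T hT) (fun M hM n => isIso_app_single τ M n hM) Y n₀ (i + 1)
      (fun q => ?_) hG0
    by_cases hq : q ≤ i + 1
    · have := isIso_homologyMap_truncLE X (i + 1) q hq
      exact G.prop_of_iso (asIso ((homologyFunctor A q).map (((tA).truncLEι (i + 1)).app X))).symm (h q)
    · exact hG0 _ (isZero_of_isLE Y (i + 1) q (by lia))
  let T := ((tA).triangleLEGT (i + 1)).obj X
  have hT : T ∈ distTriang (DerivedCategory A) := (tA).triangleLEGT_distinguished _ X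
  have key : ∀ (F : DerivedCategory A ⥤ DerivedCategory B) [F.CommShift ℤ] [F.IsTriangulated],
      LeftExact F → IsIso ((homologyFunctor B i).map (F.map T.mor₁)) := by
    intro F _ _ hF
    have : (F.mapTriangle.obj T).obj₃.IsGE (i + 1 + 1) := hF T.obj₃ (i + 1 + 1) (inferInstanceAs ((tA).IsGE (((tA).truncGT (i + 1)).obj X) (i + 1 + 1)))
    have : Mono ((homologyFunctor B i).map (F.mapTriangle.obj T).mor₁) :=
      (HomologySequence.mono_homologyMap_mor₁_iff _ (F.map_distinguished T hT) (i - 1) i (by lia)).2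
        ((isZero_of_isGE _ (i + 1 + 1) (i - 1) (by lia)).eq_of_src _ _)
    have : Epi ((homologyFunctor B i).map (F.mapTriangle.obj T).mor₁) :=
      (HomologySequence.epi_homologyMap_mor₁_iff _ (F.map_distinguished T hT) i).2
        ((isZero_of_isGE _ (i + 1 + 1) i (by lia)).eq_of_tgt _ _)
    exact isIso_of_mono_of_epi ((homologyFunctor B i).map (F.mapTriangle.obj T).mor₁)
  have k1 := key Φ hΦ
  have k2 := key Ψ hΨ
  have e := congrArg (homologyFunctor B i).map (τ.naturality T.mor₁)
  rw [Functor.map_comp, Functor.map_comp] at e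
  have : IsIso (τ.app T.obj₁) := hY
  have : IsIso ((homologyFunctor B i).map (Φ.map T.mor₁) ≫ (homologyFunctor B i).map (τ.app T.obj₂)) := by
    rw [e]; exact @IsIso.comp_isIso _ _ _ _ _ _ _ (Functor.map_isIso _ _) k2
  exact @IsIso.of_isIso_comp_left _ _ _ _ _ ((homologyFunctor B i).map (Φ.map T.mor₁)) _ k1 this

end NatTrans

section WeakSerre

variable (Q : ObjectProperty B) [WSerre.IsWeakSerre Q]

lemma prop_middle_of_exact {X₁ X₂ X₃ X₄ X₅ : B} (f : X₁ ⟶ X₂) (g : X₂ ⟶ X₃) (h : X₃ ⟶ X₄) (k : X₄ ⟶ X₅)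
    (w₁ : f ≫ g = 0) (w₂ : g ≫ h = 0) (w₃ : h ≫ k = 0)
    (e₁ : (ShortComplex.mk f g w₁).Exact) (e₂ : (ShortComplex.mk g h w₂).Exact)
    (e₃ : (ShortComplex.mk h k w₃).Exact) (h₁ : Q X₁) (h₂ : Q X₂) (h₄ : Q X₄) (h₅ : Q X₅) : Q X₃ := by
  let S := ShortComplex.mk (cokernel.desc f g w₁) (kernel.lift k h w₃)
    (by rw [← cancel_epi (cokernel.π f), ← cancel_mono (kernel.ι k)]; simp [w₂])
  let S' := ShortComplex.mk g (kernel.lift k h w₃) (by rw [← cancel_mono (kernel.ι k)]; simp [w₂])
  have hS' : S'.Exact := by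
    let φ : S' ⟶ ShortComplex.mk g h w₂ :=
      { τ₁ := 𝟙 _
        τ₂ := 𝟙 _
        τ₃ := kernel.ι k }
    exact (ShortComplex.exact_iff_of_epi_of_isIso_of_mono φ).2 e₂
  have hS : S.Exact := by
    let φ : S' ⟶ S :=
      { τ₁ := cokernel.π f
        τ₂ := 𝟙 _
        τ₃ := 𝟙 _ }
    exact (ShortComplex.exact_iff_of_epi_of_isIso_of_mono φ).1 hS'
  exact Q.prop_X₂_of_shortExact (ShortComplex.ShortExact.mk' hS e₁.mono_cokernelDesc e₃.epi_kernelLift)
    (Q.prop_cokernel f h₁ h₂) (Q.prop_kernel k h₄ h₅)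

lemma cohIn_obj₂ (T : Triangle (DerivedCategory B)) (hT : T ∈ distTriang _)
    (h₁ : WSerre.cohIn Q T.obj₁) (h₃ : WSerre.cohIn Q T.obj₃) : WSerre.cohIn Q T.obj₂ := fun q => by
  exact prop_middle_of_exact Q (HomologySequence.δ T (q - 1) q (by lia)) _ _
    (HomologySequence.δ T q (q + 1) rfl) (HomologySequence.δ_comp T hT (q - 1) q (by lia))
    (((homologyFunctor B q).map_comp _ _).symm.trans (by rw [comp_distTriang_mor_zero₁₂ T hT, Functor.map_zero]))
    (HomologySequence.comp_δ T hT q (q + 1) rfl)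
    (HomologySequence.exact₁ T hT (q - 1) q (by lia)) (HomologySequence.exact₂ T hT q)
    (HomologySequence.exact₃ T hT q (q + 1) rfl) (h₃ _) (h₁ _) (h₃ _) (h₁ _)

omit [WSerre.IsWeakSerre Q] in
lemma cohIn_of_iso [Q.IsClosedUnderIsomorphisms] {X Y : DerivedCategory B} (e : X ≅ Y)
    (h : WSerre.cohIn Q X) : WSerre.cohIn Q Y := fun q =>
  Q.prop_of_iso ((homologyFunctor B q).mapIso e) (h q)

lemma cohIn_shift (X : DerivedCategory B) (n : ℤ) (h : WSerre.cohIn Q X) : WSerre.cohIn Q (X⟦n⟧) :=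
  fun q => Q.prop_of_iso
    (((homologyFunctor B 0).shiftIso n q (n + q) rfl).app X).symm (h (n + q))

/-- A left t-exact triangulated functor sends bounded below objects with cohomology in `P` to objects
with cohomology in `Q` once it does so on `P`. -/
theorem cohIn_obj_of_isGE (P : ObjectProperty A) [WSerre.IsWeakSerre P]
    (Φ : DerivedCategory A ⥤ DerivedCategory B) [Φ.CommShift ℤ] [Φ.IsTriangulated] (hΦ : LeftExact Φ)
    (h : ∀ M, P M → WSerre.cohIn Q (Φ.obj ((singleFunctor A 0).obj M)))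
    (X : DerivedCategory A) (n₀ : ℤ) [X.IsGE n₀] (hX : WSerre.cohIn P X) :
    WSerre.cohIn Q (Φ.obj X) := by
  intro i
  let Y := ((tA).truncLE (i + 1)).obj X
  have hY : WSerre.cohIn Q (Φ.obj Y) := by
    have : Y.IsGE n₀ := isGE_truncLE X (i + 1) n₀
    have hle : Y.IsLE (i + 1) := inferInstanceAs ((tA).IsLE Y (i + 1))
    refine devissage P (fun Z => WSerre.cohIn Q (Φ.obj Z)) (fun e hZ => cohIn_of_iso Q (Φ.mapIso e) hZ)
      (fun Z hZ q => Q.prop_of_isZero ((homologyFunctor B q).map_isZero (Φ.map_isZero hZ)))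
      (fun T hT => cohIn_obj₂ Q (Φ.mapTriangle.obj T) (Φ.map_distinguished T hT))
      (fun M hM n => ?_) Y n₀ (i + 1) (prop_homology_truncLE P X (i + 1) hX) (fun M hM => P.prop_of_isZero hM)
    exact cohIn_of_iso Q ((Φ.commShiftIso (-n)).symm.app _ ≪≫
      Φ.mapIso (((singleFunctors A).shiftIso (-n) n 0 (by lia)).app M))
      (cohIn_shift Q _ (-n) (h M hM))
  let T := ((tA).triangleLEGT (i + 1)).obj X
  have hT : T ∈ distTriang (DerivedCategory A) := (tA).triangleLEGT_distinguished _ X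
  have : (Φ.mapTriangle.obj T).obj₃.IsGE (i + 1 + 1) := hΦ T.obj₃ (i + 1 + 1) (inferInstanceAs ((tA).IsGE (((tA).truncGT (i + 1)).obj X) (i + 1 + 1)))
  have : Mono ((homologyFunctor B i).map (Φ.mapTriangle.obj T).mor₁) :=
    (HomologySequence.mono_homologyMap_mor₁_iff _ (Φ.map_distinguished T hT) (i - 1) i (by lia)).2
      ((isZero_of_isGE _ (i + 1 + 1) (i - 1) (by lia)).eq_of_src _ _)
  have : Epi ((homologyFunctor B i).map (Φ.mapTriangle.obj T).mor₁) :=
    (HomologySequence.epi_homologyMap_mor₁_iff _ (Φ.map_distinguished T hT) i).2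
      ((isZero_of_isGE _ (i + 1 + 1) i (by lia)).eq_of_tgt _ _)
  have := isIso_of_mono_of_epi ((homologyFunctor B i).map (Φ.mapTriangle.obj T).mor₁)
  have e := asIso ((homologyFunctor B i).map (Φ.mapTriangle.obj T).mor₁)
  exact Q.prop_of_iso e (hY i)

end WeakSerre

section ExactFunctor

variable (w : B ⥤ A) [w.Additive] [PreservesFiniteLimits w] [PreservesFiniteColimits w]

/-- An exact functor commutes with cohomology. -/
noncomputable def homologyMapDerivedIso (X : DerivedCategory B) (i : ℤ) :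
    (homologyFunctor A i).obj (w.mapDerivedCategory.obj X) ≅ w.obj ((homologyFunctor B i).obj X) :=
  (homologyFunctor A i).mapIso (w.mapDerivedCategory.mapIso (Q.objObjPreimageIso X).symm ≪≫
      w.mapDerivedCategoryFactors.app _) ≪≫
    (homologyFunctorFactors A i).app _ ≪≫
    ((Q.objPreimage X).sc i).mapHomologyIso w ≪≫
    w.mapIso ((homologyFunctorFactors B i).symm.app _ ≪≫ (homologyFunctor B i).mapIso (Q.objObjPreimageIso X))

lemma leftExact_mapDerivedCategory : LeftExact w.mapDerivedCategory := fun X n hX => by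
  rw [isGE_iff]
  exact fun i hi => (w.map_isZero (isZero_of_isGE X n i hi)).of_iso (homologyMapDerivedIso w X i)

lemma isLE_mapDerivedCategory (X : DerivedCategory B) (n : ℤ) [X.IsLE n] :
    (w.mapDerivedCategory.obj X).IsLE n := by
  rw [isLE_iff]
  exact fun i hi => (w.map_isZero (isZero_of_isLE X n i hi)).of_iso (homologyMapDerivedIso w X i)

lemma leftExact_rightAdjoint (R : DerivedCategory A ⥤ DerivedCategory B)
    (adj : w.mapDerivedCategory ⊣ R) : LeftExact R := fun X n hX => by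
  refine (Triangulated.TStructure.isGE_iff_orthogonal _ (n - 1) n (by lia) _).2 ?_
  intro Y f hY
  have := isLE_mapDerivedCategory w Y (n - 1)
  have h0 : (adj.homEquiv Y X).symm f = 0 := (tA).zero _ (n - 1) n (by lia)
  obtain ⟨g, rfl⟩ := (adj.homEquiv Y X).surjective f
  rw [Equiv.symm_apply_apply] at h0
  subst h0
  have := adj.rightAdjointCommShift ℤ
  rw [Adjunction.homEquiv_apply]
  have : PreservesLimitsOfSize.{0, 0} R := adj.rightAdjoint_preservesLimits
  have : R.Additive := adj.right_adjoint_additive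
  simp

lemma LeftExact.id : LeftExact (𝟭 (DerivedCategory A)) := fun _ _ h => h

end ExactFunctor

end Groth.DerivedAdj
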