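import Mathlib.Algebra.Homology.DerivedCategory.KInjective
import Mathlib.Algebra.Homology.DerivedCategory.ExactFunctor
import Mathlib.CategoryTheory.Functor.Derived.Adjunction
import Mathlib.CategoryTheory.Functor.Derived.PointwiseRightDerived
import Mathlib.CategoryTheory.Functor.Derived.PointwiseLeftDerived

/-!
# The derived adjunction of an exact left adjoint

If `w ⊣ u` are additive, `w` exact and every complex over the source of `u` has a quasi-isomorphism to a
K-injective complex, then `w.mapDerivedCategory` is left adjoint to the total right derived functor of `u`,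
and the latter is an absolute right derived functor.
-/

set_option autoImplicit false

universe w₁ w₂ v₁ v₂ u₁ u₂

open CategoryTheory Limits

namespace Groth.DerivedAdj

section Homotopy

variable {A : Type u₁} [Category.{v₁} A] [Preadditive A] {B : Type u₂} [Category.{v₂} B] [Preadditive B]
  {w : B ⥤ A} {u : A ⥤ B} (adj : w ⊣ u) [w.Additive] [u.Additive]
  {ι : Type*} (c : ComplexShape ι)

/-- An adjunction induces one on homotopy categories. -/
noncomputable def mapHomotopyCategoryAdj :
    w.mapHomotopyCategory c ⊣ u.mapHomotopyCategory c :=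
  { unit :=
        { app := fun K => (HomotopyCategory.quotient B c).map
            { f := fun i => adj.unit.app (K.as.X i)
              comm' := fun i j _ => (adj.unit.naturality (K.as.d i j)).symm }
          naturality := by
            rintro ⟨K⟩ ⟨L⟩ ⟨g : K ⟶ L⟩
            refine ((HomotopyCategory.quotient B c).map_comp _ _).symm.trans
              (Eq.trans ?_ ((HomotopyCategory.quotient B c).map_comp _ _))
            congr 1
            ext i
            exact adj.unit.naturality (g.f i) }
    counit :=
        { app := fun K => (HomotopyCategory.quotient A c).map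
            { f := fun i => adj.counit.app (K.as.X i)
              comm' := fun i j _ => (adj.counit.naturality (K.as.d i j)).symm }
          naturality := by
            rintro ⟨K⟩ ⟨L⟩ ⟨g : K ⟶ L⟩
            refine ((HomotopyCategory.quotient A c).map_comp _ _).symm.trans
              (Eq.trans ?_ ((HomotopyCategory.quotient A c).map_comp _ _))
            congr 1
            ext i
            exact adj.counit.naturality (g.f i) }
    left_triangle_components := fun ⟨K⟩ => by
      refine ((HomotopyCategory.quotient A c).map_comp _ _).symm.trans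
        (Eq.trans ?_ ((HomotopyCategory.quotient A c).map_id _))
      congr 1
      ext i
      exact adj.left_triangle_components (K.X i)
    right_triangle_components := fun ⟨K⟩ => by
      refine ((HomotopyCategory.quotient B c).map_comp _ _).symm.trans
        (Eq.trans ?_ ((HomotopyCategory.quotient B c).map_id _))
      congr 1
      ext i
      exact adj.right_triangle_components (K.X i) }

end Homotopy

section Absolute

variable {C D H H' : Type*} [Category* C] [Category* D] [Category* H] [Category* H']
  {F : C ⥤ H} {L : C ⥤ D} (W : MorphismProperty C) [L.IsLocalization W]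

/-- A good object gives a terminal object in the indexing category of the Kan extension. -/
noncomputable def isTerminalOfBijective (I : C)
    (hI : ∀ K : C, Function.Bijective (L.map : (K ⟶ I) → (L.obj K ⟶ L.obj I))) :
    IsTerminal (CostructuredArrow.mk (𝟙 (L.obj I)) : CostructuredArrow L (L.obj I)) :=
  IsTerminal.ofUniqueHom
    (fun j => CostructuredArrow.homMk ((hI j.left).2 j.hom).choose
      ((Category.comp_id _).trans ((hI j.left).2 j.hom).choose_spec))
    (fun j g => by
      ext
      exact (hI j.left).1 (((Category.comp_id _).symm.trans (CostructuredArrow.w g)).trans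
        ((hI j.left).2 j.hom).choose_spec.symm))

include W in
lemma hasPointwiseRightDerivedFunctor_of_bijective
    (hres : ∀ Y : D, ∃ I : C, Nonempty (L.obj I ≅ Y) ∧
      ∀ K : C, Function.Bijective (L.map : (K ⟶ I) → (L.obj K ⟶ L.obj I))) :
    F.HasPointwiseRightDerivedFunctor W := fun X => by
  obtain ⟨I, ⟨e⟩, hI⟩ := hres (L.obj X)
  rw [F.hasPointwiseRightDerivedFunctorAt_iff L W, ← Functor.hasPointwiseLeftKanExtensionAt_iff_of_iso L F e]
  exact HasColimit.mk ⟨_, colimitOfDiagramTerminal (isTerminalOfBijective I hI) _⟩

variable (RF : D ⥤ H) (α : F ⟶ L ⋙ RF) [RF.IsRightDerivedFunctor α W]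

include W in
/-- The unit of a right derived functor is invertible on good objects. -/
lemma isIso_app_of_bijective
    (hres : ∀ Y : D, ∃ I : C, Nonempty (L.obj I ≅ Y) ∧
      ∀ K : C, Function.Bijective (L.map : (K ⟶ I) → (L.obj K ⟶ L.obj I)))
    (I : C) (hI : ∀ K : C, Function.Bijective (L.map : (K ⟶ I) → (L.obj K ⟶ L.obj I))) :
    IsIso (α.app I) := by
  have := hasPointwiseRightDerivedFunctor_of_bijective (F := F) W hres
  have hc := Functor.isPointwiseLeftKanExtensionOfHasPointwiseRightDerivedFunctor
    (α := α) (F' := RF) W (L.obj I)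
  have h := IsColimit.isIso_ι_app_of_isTerminal hc _ (isTerminalOfBijective I hI)
  change IsIso (α.app I ≫ RF.map (𝟙 (L.obj I))) at h
  erw [CategoryTheory.Functor.map_id, Category.comp_id] at h
  exact h

/-- A right derived functor computed by good objects is absolute. -/
lemma isRightDerivedFunctor_comp
    (hres : ∀ Y : D, ∃ I : C, Nonempty (L.obj I ≅ Y) ∧
      ∀ K : C, Function.Bijective (L.map : (K ⟶ I) → (L.obj K ⟶ L.obj I)))
    (G : H ⥤ H') :
    (RF ⋙ G).IsRightDerivedFunctor (Functor.whiskerRight α G ≫ (Functor.associator _ _ _).hom) W := by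
  let E := Functor.LeftExtension.mk (RF ⋙ G) (Functor.whiskerRight α G ≫ (Functor.associator L RF G).hom)
  suffices hE : E.IsPointwiseLeftKanExtension from ⟨hE.isLeftKanExtension⟩
  intro Y
  choose I e hI using hres
  refine E.isPointwiseLeftKanExtensionAtEquivOfIso' (e Y).some ?_
  have := isIso_app_of_bijective W RF α (fun Z => ⟨I Z, e Z, hI Z⟩) (I Y) (hI Y)
  have ht := isTerminalOfBijective (I Y) (hI Y)
  have hι : IsIso ((E.coconeAt (L.obj (I Y))).ι.app (CostructuredArrow.mk (𝟙 (L.obj (I Y))))) := by
    change IsIso ((G.map (α.app (I Y)) ≫ 𝟙 _) ≫ (RF ⋙ G).map (𝟙 (L.obj (I Y))))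
    infer_instance
  exact IsColimit.ofIsoColimit (colimitOfDiagramTerminal ht _)
    (Cocone.ext (asIso ((E.coconeAt (L.obj (I Y))).ι.app _)) fun j => (E.coconeAt _).w (ht.from j))

end Absolute

section Derived

variable {A : Type u₁} [Category.{v₁} A] [Abelian A] [HasDerivedCategory.{w₁} A]
  {B : Type u₂} [Category.{v₂} B] [Abelian B] [HasDerivedCategory.{w₂} B]

/-- Enough K-injective complexes. -/
def EnoughKInj (A : Type u₁) [Category.{v₁} A] [Abelian A] : Prop :=
  ∀ K : CochainComplex A ℤ, ∃ (I : CochainComplex A ℤ) (f : K ⟶ I), I.IsKInjective ∧ QuasiIso f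

lemma exists_good (hA : EnoughKInj A) (Y : DerivedCategory A) :
    ∃ I : HomotopyCategory A (ComplexShape.up ℤ), Nonempty (DerivedCategory.Qh.obj I ≅ Y) ∧
      ∀ K, Function.Bijective
        (DerivedCategory.Qh.map : (K ⟶ I) → (DerivedCategory.Qh.obj K ⟶ DerivedCategory.Qh.obj I)) := by
  obtain ⟨K, hK⟩ := HomotopyCategory.quotient_obj_surjective ((DerivedCategory.Qh (C := A)).objPreimage Y)
  obtain ⟨I, f, hI, hf⟩ := hA K
  have := Localization.inverts DerivedCategory.Qh (HomotopyCategory.quasiIso A (ComplexShape.up ℤ))
    ((HomotopyCategory.quotient A _).map f) ((HomotopyCategory.quotient_map_mem_quasiIso_iff f).2 hf)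
  exact ⟨(HomotopyCategory.quotient A _).obj I,
    ⟨(asIso (DerivedCategory.Qh.map ((HomotopyCategory.quotient A _).map f))).symm ≪≫
      DerivedCategory.Qh.mapIso (eqToIso hK) ≪≫ DerivedCategory.Qh.objObjPreimageIso Y⟩,
    fun K => CochainComplex.IsKInjective.Qh_map_bijective K I⟩

variable {w : B ⥤ A} {u : A ⥤ B} (adj : w ⊣ u) [w.Additive] [u.Additive]
  [PreservesFiniteLimits w] [PreservesFiniteColimits w]
  (hA : EnoughKInj A)
  [(u.mapHomotopyCategory (ComplexShape.up ℤ) ⋙ DerivedCategory.Qh (C := B)).HasRightDerivedFunctor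
    (HomotopyCategory.quasiIso A (ComplexShape.up ℤ))]

/-- The total right derived functor of `u`. -/
noncomputable abbrev totalR (u : A ⥤ B) [u.Additive]
    [(u.mapHomotopyCategory (ComplexShape.up ℤ) ⋙ DerivedCategory.Qh (C := B)).HasRightDerivedFunctor
      (HomotopyCategory.quasiIso A (ComplexShape.up ℤ))] : DerivedCategory A ⥤ DerivedCategory B :=
  (u.mapHomotopyCategory (ComplexShape.up ℤ) ⋙ DerivedCategory.Qh).totalRightDerived DerivedCategory.Qh
    (HomotopyCategory.quasiIso A (ComplexShape.up ℤ))

include hA in
/-- The derived adjunction. -/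
noncomputable def derivedAdj : w.mapDerivedCategory ⊣ totalR u :=
  letI e := w.mapDerivedCategoryFactorsh
  letI β := (u.mapHomotopyCategory (ComplexShape.up ℤ) ⋙ DerivedCategory.Qh (C := B)).totalRightDerivedUnit
    DerivedCategory.Qh (HomotopyCategory.quasiIso A (ComplexShape.up ℤ))
  haveI : w.mapDerivedCategory.IsLeftDerivedFunctor e.hom (HomotopyCategory.quasiIso B (ComplexShape.up ℤ)) :=
    Functor.isLeftDerivedFunctor_of_inverts _ _ e
  haveI : (w.mapDerivedCategory ⋙ totalR u).IsLeftDerivedFunctor
      ((Functor.associator _ _ _).inv ≫ Functor.whiskerRight e.hom (totalR u))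
      (HomotopyCategory.quasiIso B (ComplexShape.up ℤ)) :=
    Functor.isLeftDerivedFunctor_of_inverts (L := DerivedCategory.Qh) _ _
      ((Functor.associator _ _ _).symm ≪≫ Functor.isoWhiskerRight e (totalR u))
  haveI : (totalR u ⋙ w.mapDerivedCategory).IsRightDerivedFunctor
      (Functor.whiskerRight β w.mapDerivedCategory ≫ (Functor.associator _ _ _).hom)
      (HomotopyCategory.quasiIso A (ComplexShape.up ℤ)) :=
    isRightDerivedFunctor_comp _ (totalR u) β (exists_good hA) _
  (mapHomotopyCategoryAdj adj (ComplexShape.up ℤ)).derived (HomotopyCategory.quasiIso B (ComplexShape.up ℤ))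
    (HomotopyCategory.quasiIso A (ComplexShape.up ℤ)) e.hom β

end Derived

end Groth.DerivedAdj
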