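import Groth.Agent.DerivedAdj.Devissage

/-!
# Full faithfulness of a triangulated functor on bounded objects by dévissage
-/

set_option autoImplicit false

universe w₁ w₂ v₁ v₂ u₁ u₂

open CategoryTheory Limits Pretriangulated DerivedCategory
open scoped ZeroObject

namespace Groth.DerivedAdj

section Tri

variable {C D : Type*} [Category* C] [Category* D] [HasZeroObject C] [HasZeroObject D]
  [Preadditive C] [Preadditive D] [HasShift C ℤ] [HasShift D ℤ]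
  [∀ n : ℤ, (shiftFunctor C n).Additive] [∀ n : ℤ, (shiftFunctor D n).Additive]
  [Pretriangulated C] [Pretriangulated D]
  (G : C ⥤ D)

/-- `G` is bijective on morphisms from `X` to `Y`. -/
def BijOn (X Y : C) : Prop := Function.Bijective (G.map : (X ⟶ Y) → (G.obj X ⟶ G.obj Y))

variable {G}

omit [HasZeroObject C] [HasZeroObject D] [Preadditive C] [Preadditive D] [HasShift C ℤ] [HasShift D ℤ]
  [∀ n : ℤ, (shiftFunctor C n).Additive] [∀ n : ℤ, (shiftFunctor D n).Additive]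
  [Pretriangulated C] [Pretriangulated D] in
lemma BijOn.of_iso {X Y X' Y' : C} (e : X ≅ X') (e' : Y ≅ Y') (h : BijOn G X Y) : BijOn G X' Y' := by
  have : (G.map : (X' ⟶ Y') → (G.obj X' ⟶ G.obj Y')) =
      (Iso.homCongr (G.mapIso e) (G.mapIso e')) ∘ G.map ∘ (Iso.homCongr e e').symm := by
    ext f
    simp only [Function.comp_apply, Iso.homCongr_apply, Iso.homCongr_symm, Iso.symm_hom, Iso.symm_inv,
      Functor.mapIso_hom, Functor.mapIso_inv, G.map_comp, Category.assoc]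
    rw [← G.map_comp_assoc, ← G.map_comp, e.inv_hom_id, e'.inv_hom_id, G.map_id, G.map_id, Category.id_comp,
      Category.comp_id]
  unfold BijOn
  rw [this]
  exact (Equiv.bijective _).comp (h.comp (Equiv.bijective _))

variable [G.CommShift ℤ] [G.IsTriangulated]

omit [HasZeroObject C] [HasZeroObject D] [∀ n : ℤ, (shiftFunctor C n).Additive]
  [∀ n : ℤ, (shiftFunctor D n).Additive] [Preadditive C] [Preadditive D] [Pretriangulated C] [Pretriangulated D]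
  [G.IsTriangulated] in
lemma BijOn.shift {X Y : C} (h : BijOn G X Y) (a : ℤ) : BijOn G (X⟦a⟧) (Y⟦a⟧) := by
  have hm : ∀ f : X ⟶ Y, G.map (f⟦a⟧') =
      (G.commShiftIso a).hom.app X ≫ (G.map f)⟦a⟧' ≫ (G.commShiftIso a).inv.app Y := fun f => by simp
  refine ⟨fun f g e => ?_, fun φ => ?_⟩
  · obtain ⟨f', rfl⟩ := (shiftFunctor C a).map_surjective f
    obtain ⟨g', rfl⟩ := (shiftFunctor C a).map_surjective g
    rw [hm, hm, cancel_epi, cancel_mono] at e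
    rw [h.1 ((shiftFunctor D a).map_injective e)]
  · obtain ⟨φ', hφ⟩ := (shiftFunctor D a).map_surjective
      ((G.commShiftIso a).inv.app X ≫ φ ≫ (G.commShiftIso a).hom.app Y)
    obtain ⟨f, rfl⟩ := h.2 φ'
    exact ⟨f⟦a⟧', by rw [hm, hφ]; simp⟩

variable (G) in
/-- `G` is bijective on morphisms between all shifts of `X` and of `Y`. -/
def BijAll (X Y : C) : Prop := ∀ a b : ℤ, BijOn G (X⟦a⟧) (Y⟦b⟧)

omit [HasZeroObject C] [HasZeroObject D] [∀ n : ℤ, (shiftFunctor C n).Additive]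
  [∀ n : ℤ, (shiftFunctor D n).Additive] [Preadditive C] [Preadditive D] [Pretriangulated C] [Pretriangulated D]
  [G.IsTriangulated] [G.CommShift ℤ] in
lemma BijAll.of_iso {X Y X' Y' : C} (e : X ≅ X') (e' : Y ≅ Y') (h : BijAll G X Y) : BijAll G X' Y' :=
  fun a b => (h a b).of_iso ((shiftFunctor C a).mapIso e) ((shiftFunctor C b).mapIso e')

omit [HasZeroObject C] [HasZeroObject D] [∀ n : ℤ, (shiftFunctor C n).Additive]
  [∀ n : ℤ, (shiftFunctor D n).Additive] [Preadditive C] [Preadditive D] [Pretriangulated C] [Pretriangulated D]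
  [G.IsTriangulated] [G.CommShift ℤ] in
lemma BijAll.shiftRight {X Y : C} (h : BijAll G X Y) (k : ℤ) : BijAll G X (Y⟦k⟧) :=
  fun a b => (h a (k + b)).of_iso (Iso.refl _) ((shiftFunctorAdd C k b).app Y)

omit [HasZeroObject C] [HasZeroObject D] [∀ n : ℤ, (shiftFunctor C n).Additive]
  [∀ n : ℤ, (shiftFunctor D n).Additive] [Preadditive C] [Preadditive D] [Pretriangulated C] [Pretriangulated D]
  [G.IsTriangulated] [G.CommShift ℤ] in
lemma BijAll.shiftLeft {X Y : C} (h : BijAll G X Y) (k : ℤ) : BijAll G (X⟦k⟧) Y :=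
  fun a b => (h (k + a) b).of_iso ((shiftFunctorAdd C k a).app X) (Iso.refl _)

omit [HasZeroObject C] [HasZeroObject D] [∀ n : ℤ, (shiftFunctor C n).Additive]
  [∀ n : ℤ, (shiftFunctor D n).Additive] [Preadditive C] [Preadditive D] [Pretriangulated C] [Pretriangulated D]
  [G.IsTriangulated] in
lemma BijAll.of_forall {X Y : C} (h : ∀ n : ℤ, BijOn G X (Y⟦n⟧)) : BijAll G X Y := fun a b =>
  ((h (b - a)).shift a).of_iso (Iso.refl _) ((shiftFunctorAdd' C (b - a) a b (by lia)).symm.app Y)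

lemma BijOn.ext_right (X : C) (T : Triangle C) (hT : T ∈ distTriang C) (h₁ : BijOn G X T.obj₁)
    (h₁' : BijOn G X (T.obj₁⟦(1 : ℤ)⟧)) (h₃ : BijOn G X T.obj₃) (h₃' : BijOn G X (T.obj₃⟦(-1 : ℤ)⟧)) :
    BijOn G X T.obj₂ := by
  have hG₁ := G.map_distinguished _ hT
  have hG₀ := G.map_distinguished _ (inv_rot_of_distTriang _ hT)
  let z : T.obj₃⟦(-1 : ℤ)⟧ ⟶ T.obj₁ := T.invRotate.mor₁
  have hz : z ≫ T.mor₁ = 0 := comp_distTriang_mor_zero₁₂ _ (inv_rot_of_distTriang _ hT)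
  refine ⟨(injective_iff_map_eq_zero (G.mapAddHom : (X ⟶ T.obj₂) →+ _)).2 fun f hf => ?_, fun φ => ?_⟩
  · replace hf : G.map f = 0 := hf
    obtain ⟨g, hg⟩ := Triangle.coyoneda_exact₂ T hT f (h₃.1 (by simp [hf]))
    obtain ⟨k, hk⟩ : ∃ k : G.obj X ⟶ G.obj (T.obj₃⟦(-1 : ℤ)⟧), G.map g = k ≫ G.map z :=
      Triangle.coyoneda_exact₂ _ hG₀ (G.map g) (by
        change G.map g ≫ G.map T.mor₁ = 0
        rw [← G.map_comp, ← hg, hf])
    obtain ⟨k', rfl⟩ := h₃'.2 k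
    rw [hg, h₁.1 (hk.trans (G.map_comp k' z).symm), Category.assoc, hz, comp_zero]
  · obtain ⟨a, ha⟩ := h₃.2 (φ ≫ G.map T.mor₂)
    obtain ⟨b, hb⟩ := Triangle.coyoneda_exact₂ _ (rot_of_distTriang _ hT) a (by
      apply h₁'.1
      change G.map (a ≫ T.mor₃) = G.map 0
      rw [G.map_comp, ha, Category.assoc, ← G.map_comp, comp_distTriang_mor_zero₂₃ T hT, G.map_zero,
        comp_zero, G.map_zero])
    change X ⟶ T.obj₂ at b
    change a = b ≫ T.mor₂ at hb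
    obtain ⟨ψ, hψ⟩ : ∃ ψ : G.obj X ⟶ G.obj T.obj₁, φ - G.map b = ψ ≫ G.map T.mor₁ :=
      Triangle.coyoneda_exact₂ _ hG₁ (φ - G.map b) (by
        change (φ - G.map b) ≫ G.map T.mor₂ = 0
        rw [Preadditive.sub_comp, ← G.map_comp, ← hb, ha, sub_self])
    obtain ⟨c, rfl⟩ := h₁.2 ψ
    exact ⟨b + c ≫ T.mor₁, by rw [G.map_add, G.map_comp, ← hψ, add_sub_cancel]⟩

lemma BijOn.ext_left (Y : C) (T : Triangle C) (hT : T ∈ distTriang C) (h₁ : BijOn G T.obj₁ Y)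
    (h₁' : BijOn G (T.obj₁⟦(1 : ℤ)⟧) Y) (h₃ : BijOn G T.obj₃ Y) (h₃' : BijOn G (T.obj₃⟦(-1 : ℤ)⟧) Y) :
    BijOn G T.obj₂ Y := by
  have hG₁ := G.map_distinguished _ hT
  have hG₂ := G.map_distinguished _ (rot_of_distTriang _ hT)
  let z : T.obj₃⟦(-1 : ℤ)⟧ ⟶ T.obj₁ := T.invRotate.mor₁
  have hz : z ≫ T.mor₁ = 0 := comp_distTriang_mor_zero₁₂ _ (inv_rot_of_distTriang _ hT)
  refine ⟨(injective_iff_map_eq_zero (G.mapAddHom : (T.obj₂ ⟶ Y) →+ _)).2 fun f hf => ?_, fun φ => ?_⟩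
  · replace hf : G.map f = 0 := hf
    obtain ⟨g, hg⟩ := Triangle.yoneda_exact₂ T hT f (h₁.1 (by simp [hf]))
    obtain ⟨k, hk⟩ : ∃ k : G.obj (T.obj₁⟦(1 : ℤ)⟧) ⟶ G.obj Y, G.map g = G.map T.mor₃ ≫ k :=
      Triangle.yoneda_exact₂ _ hG₂ (G.map g) (by
        change G.map T.mor₂ ≫ G.map g = 0
        rw [← G.map_comp, ← hg, hf])
    obtain ⟨k', rfl⟩ := h₁'.2 k
    rw [hg, h₃.1 (hk.trans (G.map_comp T.mor₃ k').symm), ← Category.assoc,
      comp_distTriang_mor_zero₂₃ T hT, zero_comp]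
  · obtain ⟨a, ha⟩ := h₁.2 (G.map T.mor₁ ≫ φ)
    obtain ⟨b, hb⟩ : ∃ b : T.obj₂ ⟶ Y, a = T.mor₁ ≫ b :=
      Triangle.yoneda_exact₂ _ (inv_rot_of_distTriang _ hT) a (by
        apply h₃'.1
        change G.map (z ≫ a) = G.map 0
        rw [G.map_comp, ha, ← Category.assoc, ← G.map_comp, hz, G.map_zero, zero_comp, G.map_zero])
    obtain ⟨ψ, hψ⟩ : ∃ ψ : G.obj T.obj₃ ⟶ G.obj Y, φ - G.map b = G.map T.mor₂ ≫ ψ :=
      Triangle.yoneda_exact₂ _ hG₁ (φ - G.map b) (by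
        change G.map T.mor₁ ≫ (φ - G.map b) = 0
        rw [Preadditive.comp_sub, ← G.map_comp, ← hb, ha, sub_self])
    obtain ⟨c, rfl⟩ := h₃.2 ψ
    exact ⟨b + T.mor₂ ≫ c, by rw [G.map_add, G.map_comp, ← hψ, add_sub_cancel]⟩

lemma BijAll.ext_right (X : C) (T : Triangle C) (hT : T ∈ distTriang C) (h₁ : BijAll G X T.obj₁)
    (h₃ : BijAll G X T.obj₃) : BijAll G X T.obj₂ := fun a b => by
  have hT' := Triangle.shift_distinguished T hT b
  exact BijOn.ext_right _ _ hT' (h₁ a b) ((h₁ a (b + 1)).of_iso (Iso.refl _) ((shiftFunctorAdd C b 1).app _))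
    (h₃ a b) ((h₃ a (b + -1)).of_iso (Iso.refl _) ((shiftFunctorAdd C b (-1)).app _))

lemma BijAll.ext_left (Y : C) (T : Triangle C) (hT : T ∈ distTriang C) (h₁ : BijAll G T.obj₁ Y)
    (h₃ : BijAll G T.obj₃ Y) : BijAll G T.obj₂ Y := fun a b => by
  have hT' := Triangle.shift_distinguished T hT a
  exact BijOn.ext_left _ _ hT' (h₁ a b) ((h₁ (a + 1) b).of_iso ((shiftFunctorAdd C a 1).app _) (Iso.refl _))
    (h₃ a b) ((h₃ (a + -1) b).of_iso ((shiftFunctorAdd C a (-1)).app _) (Iso.refl _))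

lemma BijAll.of_isZero_left {X Y : C} (hX : IsZero X) : BijAll G X Y := fun a _ =>
  have h := (shiftFunctor C a).map_isZero hX
  ⟨fun _ _ _ => h.eq_of_src _ _, fun _ => ⟨0, (G.map_isZero h).eq_of_src _ _⟩⟩

lemma BijAll.of_isZero_right {X Y : C} (hY : IsZero Y) : BijAll G X Y := fun _ b =>
  have h := (shiftFunctor C b).map_isZero hY
  ⟨fun _ _ _ => h.eq_of_tgt _ _, fun _ => ⟨0, (G.map_isZero h).eq_of_tgt _ _⟩⟩

end Tri

section Derived

variable {A : Type u₁} [Category.{v₁} A] [Abelian A] [HasDerivedCategory.{w₁} A]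
  {B : Type u₂} [Category.{v₂} B] [Abelian B] [HasDerivedCategory.{w₂} B]
  (G : DerivedCategory A ⥤ DerivedCategory B) [G.CommShift ℤ] [G.IsTriangulated]
  (P : ObjectProperty A) [WSerre.IsWeakSerre P]

/-- The singles in all degrees are shifts of those in degree zero. -/
noncomputable def singleShiftIso (M : A) (n : ℤ) :
    ((singleFunctor A 0).obj M)⟦-n⟧ ≅ (singleFunctor A n).obj M :=
  ((singleFunctors A).shiftIso (-n) n 0 (by lia)).app M

/-- Dévissage of full faithfulness on bounded objects with cohomology in `P`. -/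
theorem bijective_map_of_cohInBdd
    (h : ∀ F F' : A, P F → P F' → ∀ n : ℤ, BijOn G ((singleFunctor A 0).obj F) (((singleFunctor A 0).obj F')⟦n⟧))
    (K L : DerivedCategory A) (hK : WSerre.cohInBdd P K) (hL : WSerre.cohInBdd P L) : BijAll G K L := by
  obtain ⟨hK, ⟨a, ha⟩, ⟨b, hb⟩⟩ := hK
  obtain ⟨hL, ⟨a', ha'⟩, ⟨b', hb'⟩⟩ := hL
  refine devissage P (fun Z => BijAll G Z L) (fun e hZ => hZ.of_iso e (Iso.refl _))
    (fun Z hZ => BijAll.of_isZero_left hZ) (fun T hT => BijAll.ext_left L T hT)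
    (fun F hF n => ((?_ : BijAll G ((singleFunctor A 0).obj F) L).shiftLeft (-n)).of_iso
      (singleShiftIso F n) (Iso.refl _)) K a b (hge := ha) (hle := hb) hK (fun M hM => P.prop_of_isZero hM)
  exact devissage P (fun Z => BijAll G ((singleFunctor A 0).obj F) Z) (fun e hZ => hZ.of_iso (Iso.refl _) e)
    (fun Z hZ => BijAll.of_isZero_right hZ) (fun T hT => BijAll.ext_right _ T hT)
    (fun F' hF' n => ((BijAll.of_forall (h F F' hF hF')).shiftRight (-n)).of_iso (Iso.refl _)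
      (singleShiftIso F' n)) L a' b' (hge := ha') (hle := hb') hL (fun M hM => P.prop_of_isZero hM)

/-- Dévissage of essential surjectivity. -/
theorem exists_preimage_of_cohInBdd (R : ObjectProperty B) [WSerre.IsWeakSerre R]
    (h : ∀ F F' : A, P F → P F' → ∀ n : ℤ, BijOn G ((singleFunctor A 0).obj F) (((singleFunctor A 0).obj F')⟦n⟧))
    (hsurj : ∀ M : B, R M → ∃ F : A, P F ∧ Nonempty (G.obj ((singleFunctor A 0).obj F) ≅ (singleFunctor B 0).obj M))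
    (M : DerivedCategory B) (hM : WSerre.cohInBdd R M) :
    ∃ K : DerivedCategory A, WSerre.cohInBdd P K ∧ Nonempty (G.obj K ≅ M) := by
  obtain ⟨hM, ⟨a, ha⟩, ⟨b, hb⟩⟩ := hM
  refine devissage R (fun Z => ∃ K, WSerre.cohInBdd P K ∧ Nonempty (G.obj K ≅ Z))
    (fun e ⟨K, hK, ⟨i⟩⟩ => ⟨K, hK, ⟨i ≪≫ e⟩⟩) (fun Z hZ => ?_) (fun T hT ⟨K₁, hK₁, ⟨i₁⟩⟩ ⟨K₃, hK₃, ⟨i₃⟩⟩ => ?_)
    (fun N hN n => ?_) M a b (hge := ha) (hle := hb) hM (fun M hM => R.prop_of_isZero hM)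
  · refine ⟨0, ⟨fun q => P.prop_of_isZero ((homologyFunctor A q).map_isZero (isZero_zero _)), ⟨0, ?_⟩, ⟨0, ?_⟩⟩,
      ⟨(G.map_isZero (isZero_zero _)).iso hZ⟩⟩ <;> infer_instance
  · obtain ⟨δ, hδ⟩ := ((bijective_map_of_cohInBdd G P h K₃ K₁ hK₃ hK₁) 0 1).2
      (G.map ((shiftFunctorZero _ ℤ).hom.app K₃) ≫
        i₃.hom ≫ T.mor₃ ≫ (shiftFunctor _ (1 : ℤ)).map i₁.inv ≫ (G.commShiftIso (1 : ℤ)).inv.app K₁)
    let δ₀ : K₃ ⟶ K₁⟦(1 : ℤ)⟧ := (shiftFunctorZero _ ℤ).inv.app K₃ ≫ δ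
    have hδ₀ : G.map δ₀ = i₃.hom ≫ T.mor₃ ≫ (shiftFunctor _ (1 : ℤ)).map i₁.inv ≫
        (G.commShiftIso (1 : ℤ)).inv.app K₁ := by
      refine (G.map_comp _ _).trans ((congrArg _ hδ).trans ?_)
      refine (G.map_comp_assoc _ _ _).symm.trans ?_
      rw [Iso.inv_hom_id_app]
      exact (congrArg (· ≫ _) (G.map_id K₃)).trans (Category.id_comp _)
    obtain ⟨K₂, f, g, hK⟩ := distinguished_cocone_triangle₂ δ₀
    have hK₂ : WSerre.cohInBdd P K₂ :=
      ⟨cohIn_obj₂ P _ hK hK₁.1 hK₃.1,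
        (TStructure.t : Triangulated.TStructure (DerivedCategory A)).bounded.ext_of_isTriangulatedClosed₂ _ hK hK₁.2 hK₃.2⟩
    have comm : (G.mapTriangle.obj (Triangle.mk f g δ₀)).mor₃ ≫
        i₁.hom⟦(1 : ℤ)⟧' = i₃.hom ≫ T.mor₃ := by
      change (G.map δ₀ ≫ (G.commShiftIso (1 : ℤ)).hom.app K₁) ≫ i₁.hom⟦(1 : ℤ)⟧' = _
      rw [hδ₀]
      simp [← Functor.map_comp, ← Functor.map_comp_assoc]
    obtain ⟨φ, hφ₁, hφ₂⟩ := complete_distinguished_triangle_morphism₂ _ T (G.map_distinguished _ hK) hT i₁.hom i₃.hom comm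
    have : IsIso φ := isIso₂_of_isIso₁₃ (Triangle.homMk (G.mapTriangle.obj (Triangle.mk f g _)) T i₁.hom φ i₃.hom
      hφ₁ hφ₂ comm) (G.map_distinguished _ hK) hT (inferInstanceAs (IsIso i₁.hom)) (inferInstanceAs (IsIso i₃.hom))
    exact ⟨K₂, hK₂, ⟨@asIso _ _ _ _ φ this⟩⟩
  · obtain ⟨F, hF, ⟨i⟩⟩ := hsurj N hN
    refine ⟨(singleFunctor A n).obj F, ⟨fun q => ?_, ⟨n, ?_⟩, ⟨n, ?_⟩⟩, ⟨G.mapIso (singleShiftIso F n).symm ≪≫
      (G.commShiftIso (-n)).app _ ≪≫ (shiftFunctor _ (-n)).mapIso i ≪≫ singleShiftIso N n⟩⟩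
    · by_cases hq : q = n
      · subst hq
        exact P.prop_of_iso ((singleFunctorCompHomologyFunctorIso A q).app F).symm hF
      · refine P.prop_of_isZero ?_
        rcases lt_or_gt_of_ne hq with h | h
        · exact DerivedCategory.isZero_of_isGE _ n q h
        · exact DerivedCategory.isZero_of_isLE _ n q h
    all_goals infer_instance

end Derived

end Groth.DerivedAdj
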